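import Groth.Agent.MiscFlat6.ConstrCrit
import Mathlib.AlgebraicGeometry.Pullbacks
import Mathlib.AlgebraicGeometry.Morphisms.FiniteType
import Mathlib.RingTheory.Spectrum.Prime.Chevalley
import Mathlib.RingTheory.Flat.Basic
import Mathlib.FieldTheory.IsAlgClosed.Basic
import Mathlib.FieldTheory.IsAlgClosed.AlgebraicClosure
import Mathlib.AlgebraicGeometry.ResidueField

/-!
# A field whose self tensor product is covered by a scheme of finite type over it
-/

set_option autoImplicit false
set_option backward.isDefEq.respectTransparency false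

universe u

open CategoryTheory CategoryTheory.Limits AlgebraicGeometry Polynomial
open scoped TensorProduct

noncomputable section

namespace AlgPtLiftLib

variable {k K : Type u} [Field k] [Field K] [Algebra k K]

/-- A finite type algebra over `K[X]` with a prime over the generic point has a prime over a rational point. -/
theorem exists_comap_rational [Infinite k] {B : Type u} [CommRing B] {ψ : K[X] →+* B} (hψ : ψ.FiniteType)
    {P : Ideal B} [P.IsPrime] (hP : P.comap ψ = ⊥) :
    ∃ c : k, ∃ P' : Ideal B, P'.IsPrime ∧ ψ (X - C (algebraMap k K c)) ∈ P' := by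
  have hc := PrimeSpectrum.isConstructible_range_comap (RingHom.FinitePresentation.of_finiteType.mp hψ)
  have hd : Dense (Set.range (PrimeSpectrum.comap ψ)) := by
    rw [dense_iff_closure_eq]
    refine Set.eq_univ_of_forall fun x ↦ ?_
    refine (specializes_iff_mem_closure.mp ((PrimeSpectrum.le_iff_specializes _ x).mp (?_ :
      PrimeSpectrum.comap ψ ⟨P, inferInstance⟩ ≤ x))).out |> closure_mono ?_
    · rintro _ rfl; exact ⟨_, rfl⟩
    · show P.comap ψ ≤ x.asIdeal
      rw [hP]; exact bot_le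
  obtain ⟨U, hU, ⟨x, hx⟩, hsub⟩ := (MiscFlat6.dense_iff_contains_open hc).mp hd
  obtain ⟨_, ⟨f, rfl⟩, hxf, hfU⟩ := PrimeSpectrum.isTopologicalBasis_basic_opens.exists_subset_of_mem_open hx hU
  have hf : f ≠ 0 := fun h ↦ by subst h; exact hxf (Submodule.zero_mem _)
  haveI : Infinite (Set.range (algebraMap k K)) :=
    Infinite.of_injective _ (Equiv.ofInjective _ (algebraMap k K).injective).injective
  obtain ⟨c', hc'⟩ : ∃ c' : Set.range (algebraMap k K), f.eval c'.1 ≠ 0 := by
    by_contra! h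
    exact hf (Polynomial.eq_zero_of_infinite_isRoot f ((Set.infinite_coe_iff.mp inferInstance).mono
      fun y hy ↦ h ⟨y, hy⟩))
  obtain ⟨_, c, rfl⟩ := c'
  let M : PrimeSpectrum K[X] := ⟨RingHom.ker (evalRingHom (algebraMap k K c)), RingHom.ker_isPrime _⟩
  have hM : M ∈ (PrimeSpectrum.basicOpen f : Set (PrimeSpectrum K[X])) := fun h ↦ hc' (RingHom.mem_ker.mp h)
  obtain ⟨P', hP'⟩ := hsub (hfU hM)
  refine ⟨c, P'.asIdeal, P'.isPrime, ?_⟩
  show (X - C (algebraMap k K c)) ∈ P'.asIdeal.comap ψ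
  rw [show P'.asIdeal.comap ψ = M.asIdeal from congrArg PrimeSpectrum.asIdeal hP']
  simp [M, RingHom.mem_ker]

variable [IsAlgClosed k]

/-- If a scheme locally of finite type over `K` surjects onto `Spec (K ⊗[k] K)`, then `K = k`. -/
theorem surjective_algebraMap_of_cover {Y : Scheme.{u}}
    (g : Y ⟶ pullback (Spec.map (CommRingCat.ofHom (algebraMap k K))) (Spec.map (CommRingCat.ofHom (algebraMap k K))))
    [Surjective g] [LocallyOfFiniteType (g ≫ pullback.fst _ _)] :
    Function.Surjective (algebraMap k K) := by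
  intro t
  by_contra ht
  haveI : Infinite k := IsAlgClosed.instInfinite
  have htr : Transcendental k t := by
    intro halg
    have hi := halg.isIntegral
    have h1 := IsAlgClosed.degree_eq_one_of_irreducible k (minpoly.irreducible hi)
    exact ht (minpoly.degree_eq_one_iff.mp h1)
  let ψ₀ : K[X] →+* K ⊗[k] K := (aeval (R := K) ((1 : K) ⊗ₜ[k] t)).toRingHom
  have hli : LinearIndependent K fun n : ℕ ↦ (1 : K) ⊗ₜ[k] (t ^ n) := by
    refine Module.Flat.linearIndependent_one_tmul (linearIndependent_iff'.mpr fun s g hg i hi ↦ ?_)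
    have h0 := transcendental_iff.mp htr (∑ j ∈ s, monomial j (g j)) (by simpa [Algebra.smul_def] using hg)
    simpa [finset_sum_coeff, coeff_monomial, hi] using congrArg (coeff · i) h0
  have hψ₀ : Function.Injective ψ₀ := by
    refine (injective_iff_map_eq_zero ψ₀).mpr fun p hp ↦ ?_
    have hp' : aeval ((1 : K) ⊗ₜ[k] t) p = 0 := hp
    rw [aeval_eq_sum_range] at hp'
    simp only [Algebra.TensorProduct.tmul_pow, one_pow] at hp'
    ext i
    rw [coeff_zero]
    by_cases hi : i ∈ Finset.range (p.natDegree + 1)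
    · exact linearIndependent_iff'.mp hli _ _ hp' i hi
    · exact coeff_eq_zero_of_natDegree_lt (by simpa using hi)
  obtain ⟨Q, hQ, -⟩ : ∃ Q : PrimeSpectrum (K ⊗[k] K), Q.asIdeal.comap ψ₀ = ⊥ ∧ True := by
    obtain ⟨p, hp, h⟩ := Ideal.exists_comap_eq_of_mem_minimalPrimes ψ₀ (I := ⊥) ⊥ (by
      rw [Ideal.comap_bot_of_injective ψ₀ hψ₀, Ideal.minimalPrimes_eq_subsingleton_self]; rfl)
    exact ⟨⟨p, hp⟩, h.2, trivial⟩
  obtain ⟨y, hy⟩ := g.surjective ((pullbackSpecIso k K K).inv Q)
  obtain ⟨_, ⟨U, hU, rfl⟩, hyU, -⟩ := Y.isBasis_affineOpens.exists_subset_of_mem_open (Set.mem_univ y) isOpen_univ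
  let h : Spec Γ(Y, U) ⟶ Spec (CommRingCat.of (K ⊗[k] K)) := hU.fromSpec ≫ g ≫ (pullbackSpecIso k K K).hom
  let φ : CommRingCat.of (K ⊗[k] K) ⟶ Γ(Y, U) := Spec.preimage h
  have hφ : Spec.map φ = h := Spec.map_preimage h
  obtain ⟨p, hp⟩ : y ∈ Set.range hU.fromSpec := by rwa [hU.range_fromSpec]
  have hpQ : p.asIdeal.comap φ.hom = Q.asIdeal := by
    have : Spec.map φ p = Q := by
      rw [hφ]
      show (pullbackSpecIso k K K).hom (g (hU.fromSpec p)) = Q
      rw [hp, hy, ← Scheme.Hom.comp_apply, Iso.inv_hom_id]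
      rfl
    exact congrArg PrimeSpectrum.asIdeal this
  let ψ : K[X] →+* Γ(Y, U) := φ.hom.comp ψ₀
  have hψ : ψ.FiniteType := by
    refine RingHom.FiniteType.of_comp_finiteType (f := C) ?_
    have e : ψ.comp C = φ.hom.comp (Algebra.TensorProduct.includeLeftRingHom) := by
      ext c
      simp [ψ, ψ₀, Algebra.TensorProduct.includeLeftRingHom]
    rw [e]
    have : LocallyOfFiniteType (Spec.map (CommRingCat.ofHom Algebra.TensorProduct.includeLeftRingHom ≫ φ)) := by
      rw [Spec.map_comp, hφ]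
      show LocallyOfFiniteType ((hU.fromSpec ≫ g ≫ (pullbackSpecIso k K K).hom) ≫ _)
      rw [Category.assoc, Category.assoc, pullbackSpecIso_hom_fst]
      infer_instance
    exact (HasRingHomProperty.Spec_iff (P := @LocallyOfFiniteType)).mp this
  have hP : p.asIdeal.comap ψ = ⊥ := by
    rw [show p.asIdeal.comap ψ = (p.asIdeal.comap φ.hom).comap ψ₀ from rfl, hpQ, hQ]
  obtain ⟨c, P', hP', hmem⟩ := exists_comap_rational (k := k) hψ hP
  have hne : t - algebraMap k K c ≠ 0 := sub_ne_zero.mpr fun e ↦ ht ⟨c, e.symm⟩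
  have e : ψ₀ (X - C (algebraMap k K c)) = Algebra.TensorProduct.includeRight (t - algebraMap k K c) := by
    show aeval ((1 : K) ⊗ₜ[k] t) (X - C (algebraMap k K c)) = (1 : K) ⊗ₜ[k] (t - algebraMap k K c)
    rw [map_sub, aeval_X, aeval_C, TensorProduct.tmul_sub]
    congr 1
    rw [Algebra.TensorProduct.algebraMap_apply, Algebra.algebraMap_self_apply]
    exact Algebra.TensorProduct.tmul_one_eq_one_tmul c
  have hu : IsUnit (ψ (X - C (algebraMap k K c))) := by
    show IsUnit (φ.hom (ψ₀ _))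
    rw [e]
    exact ((hne.isUnit).map _).map _
  exact hP'.ne_top (Ideal.eq_top_of_isUnit_mem _ hmem hu)

omit [Algebra k K] in
/-- If every pair of geometric points of `V` and of `Spec K ⟶ V` over `k` lifts to `P`, of finite type over `K`,
then `Spec K ⟶ Spec k` is an isomorphism. -/
theorem isIso_of_pairs {V P : Scheme.{u}} (q : V ⟶ Spec (CommRingCat.of k)) (ι : Spec (CommRingCat.of K) ⟶ V)
    [LocallyOfFiniteType ι] (t : P ⟶ Spec (CommRingCat.of K)) (w : P ⟶ V) [LocallyOfFiniteType t]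
    (hwq : w ≫ q = t ≫ ι ≫ q)
    (pairs : ∀ (Ω : Type u) [Field Ω] [IsAlgClosed Ω] (a : Spec (CommRingCat.of Ω) ⟶ V)
      (b : Spec (CommRingCat.of Ω) ⟶ Spec (CommRingCat.of K)), a ≫ q = b ≫ ι ≫ q →
      ∃ (Ω' : Type u) (_ : Field Ω') (π : Spec (CommRingCat.of Ω') ⟶ P)
        (g : Spec (CommRingCat.of Ω') ⟶ Spec (CommRingCat.of Ω)), π ≫ t = g ≫ b ∧ π ≫ w = g ≫ a) :
    IsIso (ι ≫ q) := by
  let φ : CommRingCat.of k ⟶ CommRingCat.of K := Spec.preimage (ι ≫ q)
  letI : Algebra k K := φ.hom.toAlgebra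
  have hφ : Spec.map (CommRingCat.ofHom (algebraMap k K)) = ι ≫ q := Spec.map_preimage _
  let Φ : P ⟶ pullback q (ι ≫ q) := pullback.lift w t hwq
  haveI : Surjective Φ := by
    refine ⟨fun z ↦ ?_⟩
    let R := (pullback q (ι ≫ q)).residueField z
    let ζ : Spec (CommRingCat.of (AlgebraicClosure R)) ⟶ pullback q (ι ≫ q) :=
      Spec.map (CommRingCat.ofHom (algebraMap R (AlgebraicClosure R))) ≫ (pullback q (ι ≫ q)).fromSpecResidueField z
    obtain ⟨Ω', _, π, g, h₁, h₂⟩ := pairs (AlgebraicClosure R) (ζ ≫ pullback.fst _ _) (ζ ≫ pullback.snd _ _) (by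
      rw [Category.assoc ζ, Category.assoc ζ, pullback.condition])
    refine ⟨π (IsLocalRing.closedPoint Ω'), ?_⟩
    have hζ : π ≫ Φ = g ≫ ζ := by
      refine pullback.hom_ext ?_ ?_
      · rw [Category.assoc, pullback.lift_fst, Category.assoc]; exact h₂
      · rw [Category.assoc, pullback.lift_snd, Category.assoc]; exact h₁
    rw [← Scheme.Hom.comp_apply, hζ]
    simp only [ζ, Scheme.Hom.comp_apply]
    exact Scheme.fromSpecResidueField_apply z _
  let m : pullback (ι ≫ q) (ι ≫ q) ⟶ pullback q (ι ≫ q) :=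
    pullback.map _ _ _ _ ι (𝟙 _) (𝟙 _) (by simp) (by simp)
  haveI : LocallyOfFiniteType m :=
    MorphismProperty.pullbackMap (P := @LocallyOfFiniteType) ‹LocallyOfFiniteType ι› inferInstance rfl
      (Category.id_comp _).symm
  let i : pullback (ι ≫ q) (ι ≫ q) ≅
      pullback (Spec.map (CommRingCat.ofHom (algebraMap k K))) (Spec.map (CommRingCat.ofHom (algebraMap k K))) :=
    pullbackSymmetry _ _ ≪≫ pullback.congrHom hφ.symm hφ.symm
  let g := pullback.snd Φ m ≫ i.hom
  haveI : LocallyOfFiniteType (g ≫ pullback.fst _ _) := by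
    have e : g ≫ pullback.fst _ _ = pullback.fst Φ m ≫ t := by
      rw [show t = Φ ≫ pullback.snd _ _ from (pullback.lift_snd _ _ _).symm, pullback.condition_assoc]
      simp [g, i, m]
    rw [e]
    infer_instance
  haveI : IsIso (CommRingCat.ofHom (algebraMap k K)) :=
    (ConcreteCategory.isIso_iff_bijective _).mpr
      ⟨(algebraMap k K).injective, surjective_algebraMap_of_cover g⟩
  rw [← hφ]
  infer_instance

end AlgPtLiftLib
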