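import Groth.Agent.AlgStSetoidLib.DiagPoints
import Groth.Agent.AlgPtLiftLib.Field
import Mathlib.FieldTheory.IsAlgClosed.AlgebraicClosure

/-!
# Lifting algebraically closed points along morphisms with surjective diagonal
-/

set_option linter.all false
set_option autoImplicit false
set_option backward.isDefEq.respectTransparency false
set_option backward.isDefEq.respectTransparency.types false

universe u

open CategoryTheory CategoryTheory.Limits AlgebraicGeometry Opposite AlgSp FibCat FibLib AlgSpLib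
open CategoryTheory.Functor (Fiber)

noncomputable section

namespace AlgPtLiftLib
open AlgStBig AlgStSetoidLib

variable {S : Scheme.{u}}

/-- Composition with a morphism, as a functor over the base. -/
def mapCat {U V : Over S} (g : U ⟶ V) : overCat U ⥤ᵇ overCat V where
  toFunctor := Over.map g
  w := rfl

/-- Objects of a slice joined by a morphism over the identity have the same structure morphism. -/
lemma hom_eq_of_lift_id {U R : Over S} {c d : (overCat U).obj} (φ : c ⟶ d) (h : (overCat U).p.IsHomLift (𝟙 R) φ)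
    (hc : c.left = R) (hd : d.left = R) : eqToHom hc.symm ≫ c.hom = eqToHom hd.symm ≫ d.hom := by
  have e : φ.left = eqToHom hc ≫ 𝟙 R ≫ eqToHom hd.symm := IsHomLift.fac' (overCat U).p (𝟙 R) φ
  rw [← Over.w φ, e]
  simp

/-- A functor between slices is composition with a morphism. -/
lemma obj_hom {V T : Over S} (Ψ : overCat V ⥤ᵇ overCat T) (c : (overCat V).obj) :
    (Ψ.obj c).hom = eqToHom (Ψ.w_obj c) ≫ c.hom ≫
      eqToHom (Ψ.w_obj (Over.mk (𝟙 V))).symm ≫ (Ψ.obj (Over.mk (𝟙 V))).hom := by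
  let ρ : c ⟶ Over.mk (𝟙 V) := Over.homMk c.hom
  have e : (Ψ.map ρ).left = eqToHom (Ψ.w_obj c) ≫ c.hom ≫ eqToHom (Ψ.w_obj (Over.mk (𝟙 V))).symm :=
    IsHomLift.fac' (overCat T).p ((overCat V).p.map ρ) (Ψ.map ρ)
  rw [← Over.w (Ψ.map ρ), e]
  simp

variable {𝒳 𝒴 : AlgSt.Cat S} (f : 𝒳 ⥤ᵇ 𝒴) {T : Over S} (u : overCat T ⥤ᵇ 𝒴) {V : Over S}
  (x : overCat V ⥤ᵇ fp u f)

/-- The map of an atlas of the fibre to the base. -/
def atlasHom : V ⟶ T :=
  eqToHom ((BasedFunctor.comp x (fpFst u f)).w_obj (Over.mk (𝟙 V))).symm ≫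
    ((BasedFunctor.comp x (fpFst u f)).obj (Over.mk (𝟙 V))).hom

lemma fst_hom (c : (overCat V).obj) :
    (x.obj c).obj.fst.hom = eqToHom ((BasedFunctor.comp x (fpFst u f)).w_obj c) ≫ c.hom ≫ atlasHom f u x :=
  obj_hom (BasedFunctor.comp x (fpFst u f)) c

/-- The two projections of the self fibre product of an atlas agree over the base. -/
lemma snd_hom_comp_atlasHom {U : Over S} (g : U ⟶ V) (o : (fp (BasedFunctor.comp (mapCat g) x) x).obj)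
    (hs : o.obj.snd.left = o.obj.fst.left) :
    eqToHom hs.symm ≫ o.obj.snd.hom ≫ atlasHom f u x = o.obj.fst.hom ≫ g ≫ atlasHom f u x := by
  let Ψ := BasedFunctor.comp x (fpFst u f)
  haveI : (fp u f).p.IsHomLift (𝟙 o.obj.fst.left) o.obj.iso.hom := o.property
  have hd : (Ψ.obj o.obj.snd).left = o.obj.fst.left := (Ψ.w_obj o.obj.snd).trans hs
  have hc : (Ψ.obj ((mapCat g).obj o.obj.fst)).left = o.obj.fst.left := Ψ.w_obj ((mapCat g).obj o.obj.fst)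
  have h := hom_eq_of_lift_id (Ψ.map (𝟙 _) ≫ (fpFst u f).map o.obj.iso.hom)
    (R := o.obj.fst.left) (c := Ψ.obj ((mapCat g).obj o.obj.fst)) (d := Ψ.obj o.obj.snd) (by
      rw [Ψ.toFunctor.map_id, Category.id_comp]
      exact (fpFst u f).preserves_isHomLift _ _) hc hd
  rw [obj_hom Ψ ((mapCat g).obj o.obj.fst), obj_hom Ψ o.obj.snd] at h
  simp only [eqToHom_trans_assoc] at h
  have hm : ((mapCat g).obj o.obj.fst).hom = o.obj.fst.hom ≫ g := rfl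
  rw [hm] at h
  simpa [atlasHom, Ψ] using h.symm

/-- Two geometric points of the atlas over the same point of the base lift to the self fibre product. -/
theorem exists_lift_pair (h𝒳 : AlgSt.IsAlgStack Scheme.fppfPrecoverage 𝒳)
    (h𝒴 : AlgSt.IsAlgStack Scheme.fppfPrecoverage 𝒴) (hΔ : AlgSt.IsSurjective (FibCat.diag f))
    {TK : Over S} (vK : TK ⟶ V) {F : AlgSp.Sp S}
    (e : AlgSt.ofSp F ⥤ᵇ fp (BasedFunctor.comp (mapCat vK) x) x) (he : IsEquivOver e)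
    {P : Over S} (p : (yon S).obj P ⟶ F) (hps : Function.Surjective (AlgSp.Points.map p))
    (Ω : Type u) [Field Ω] [IsAlgClosed Ω] (str : Spec (CommRingCat.of Ω) ⟶ S)
    (a' : Over.mk str ⟶ V) (b' : Over.mk str ⟶ TK) (hab : a' ≫ atlasHom f u x = b' ≫ vK ≫ atlasHom f u x) :
    ∃ (Ω' : Type u) (_ : Field Ω') (str' : Spec (CommRingCat.of Ω') ⟶ S) (π : Over.mk str' ⟶ P)
      (g : Over.mk str' ⟶ Over.mk str),
      π ≫ AlgSt.secHom (BasedFunctor.comp e (fpFst (BasedFunctor.comp (mapCat vK) x) x)) ⟨P, p.hom.app (op P) ⟨𝟙 P⟩⟩ =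
          g ≫ b' ∧
        π ≫ AlgSt.secHom (BasedFunctor.comp e (fpSnd (BasedFunctor.comp (mapCat vK) x) x)) ⟨P, p.hom.app (op P) ⟨𝟙 P⟩⟩ =
          g ≫ a' := by
  haveI := h𝒳.isStack.1
  haveI := h𝒴.isStack.1
  haveI : IsFibGrpd (fp u f).p := isFibGrpd_fp
  let Tw : Over S := Over.mk str
  let q := atlasHom f u x
  let z₁ := x.obj (Over.mk a')
  let z₂ := x.obj (Over.mk (b' ≫ vK))
  have hz₁ : z₁.obj.fst.left = Tw := x.w_obj (Over.mk a')
  have hz₂ : z₂.obj.fst.left = Tw := x.w_obj (Over.mk (b' ≫ vK))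
  let θ : z₂.obj.fst ⟶ z₁.obj.fst := Over.homMk (eqToHom (hz₂.trans hz₁.symm)) (by
    rw [fst_hom f u x (Over.mk a'), fst_hom f u x (Over.mk (b' ≫ vK))]
    simp only [Over.mk_hom, Category.assoc, eqToHom_trans_assoc]
    erw [hab])
  have hθ : (overCat T).p.IsHomLift (𝟙 Tw) θ := IsHomLift.of_fac _ _ _ hz₂ hz₁ (by
    show 𝟙 Tw = eqToHom hz₂.symm ≫ eqToHom (hz₂.trans hz₁.symm) ≫ eqToHom hz₁
    simp)
  have ha₁ : 𝒳.p.obj z₁.obj.snd = Tw := ((fpSnd u f).w_obj z₁).trans hz₁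
  have ha₂ : 𝒳.p.obj z₂.obj.snd = Tw := ((fpSnd u f).w_obj z₂).trans hz₂
  haveI h1 : 𝒴.p.IsHomLift (𝟙 Tw) z₁.obj.iso.hom := isHomLift_id_congr hz₁ z₁.property
  haveI h2 : 𝒴.p.IsHomLift (𝟙 Tw) z₂.obj.iso.hom := isHomLift_id_congr hz₂ z₂.property
  haveI h3 : 𝒴.p.IsHomLift (𝟙 Tw) (u.map θ) := @BasedFunctor.preserves_isHomLift _ _ _ _ u _ _ _ _ _ θ hθ
  let β : f.obj z₂.obj.snd ⟶ f.obj z₁.obj.snd := z₂.obj.iso.inv ≫ u.map θ ≫ z₁.obj.iso.hom
  have hβ : 𝒴.p.IsHomLift (𝟙 Tw) β := by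
    haveI : 𝒴.p.IsHomLift (𝟙 Tw) z₂.obj.iso.inv := IsHomLift.lift_id_inv _ _ _
    simp only [β]
    infer_instance
  obtain ⟨α, hα, hαβ⟩ := exists_lift_of_isSurjective_diag h𝒳 h𝒴 f hΔ str _ _ ha₂ ha₁ β hβ
  let ρ : z₂ ⟶ z₁ := fpHom θ α (by rw [hαβ]; simp [β])
  haveI hρ : (fp u f).p.IsHomLift (𝟙 Tw) ρ :=
    @isHomLift_of_fst _ _ _ _ _ u f _ _ (𝟙 Tw) _ _ ρ hθ
  haveI : IsIso ρ := isIso_of_isHomLift (p := (fp u f).p) (𝟙 Tw) ρ
  let o' : (fp (BasedFunctor.comp (mapCat vK) x) x).obj :=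
    fpObj (F := BasedFunctor.comp (mapCat vK) x) (G := x) (Over.mk b') (Over.mk a') (asIso ρ) hρ
  obtain ⟨⟨R, ξ'⟩, κ', hκ'⟩ := vertEssSurj_of_isEquivOver he o'
  have hR : R = Tw := (e.w_obj (⟨R, ξ'⟩ : (AlgSt.ofSp F).obj)).symm.trans
    (@IsHomLift.domain_eq _ _ _ _ _ _ _ _ _ _ κ'.hom hκ')
  subst hR
  let Φ₁ := BasedFunctor.comp e (fpFst (BasedFunctor.comp (mapCat vK) x) x)
  let Φ₂ := BasedFunctor.comp e (fpSnd (BasedFunctor.comp (mapCat vK) x) x)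
  let ξ : F.obj.obj (op P) := p.hom.app (op P) ⟨𝟙 P⟩
  let o : (AlgSt.ofSp F).obj := ⟨P, ξ⟩
  let c : (AlgSt.ofSp F).obj := ⟨Tw, ξ'⟩
  have hk : (fp (BasedFunctor.comp (mapCat vK) x) x).p.IsHomLift (𝟙 Tw) κ'.hom := hκ'
  have hc₁ : AlgSt.secHom Φ₁ c = b' := by
    have h := hom_eq_of_lift_id κ'.hom.hom.fst (@isHomLift_fst _ _ _ _ _ _ _ _ _ (𝟙 Tw) _ _ κ'.hom hk) (Φ₁.w_obj c) rfl
    exact h.trans (Category.id_comp _)
  have hc₂ : AlgSt.secHom Φ₂ c = a' := by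
    have h := hom_eq_of_lift_id κ'.hom.hom.snd (@isHomLift_snd _ _ _ _ _ _ _ _ _ (𝟙 Tw) _ _ κ'.hom hk) (Φ₂.w_obj c) rfl
    exact h.trans (Category.id_comp _)
  let ζ' : AlgSp.FieldPt F := { K := Ω, str := str, val := ξ' }
  obtain ⟨y, hy⟩ := hps (AlgSp.Points.mk ζ')
  obtain ⟨y₀, rfl⟩ := (AlgSp.Points.schemeHomeo P).surjective y
  obtain ⟨Ω', _, str', g₁, g₂, hg⟩ : AlgSp.FieldPt.Rel (AlgSp.FieldPt.ofPt p y₀) ζ' := Quotient.exact hy
  let g₀ : (AlgSp.FieldPt.ofPt p y₀).pt ⟶ P := Over.homMk (P.left.fromSpecResidueField y₀) rfl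
  let π : Over.mk str' ⟶ P := g₁ ≫ g₀
  have hnat : ∀ {A B : Over S} (r : A ⟶ B) (σ : B ⟶ P),
      F.obj.map r.op (p.hom.app (op B) ⟨σ⟩) = p.hom.app (op A) ⟨r ≫ σ⟩ := fun r σ =>
    (ConcreteCategory.congr_hom (p.hom.naturality r.op) ⟨σ⟩).symm
  have hπ : F.obj.map π.op ξ = F.obj.map g₂.op ξ' := by
    refine Eq.trans ?_ hg
    show F.obj.map π.op (p.hom.app (op P) ⟨𝟙 P⟩) = F.obj.map g₁.op (p.hom.app _ ⟨g₀⟩)
    rw [hnat, hnat, Category.comp_id]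
  refine ⟨Ω', inferInstance, str', π, g₂, ?_, ?_⟩
  · show π ≫ AlgSt.secHom Φ₁ o = g₂ ≫ b'
    rw [← hc₁]
    exact (AlgSt.secHom_comp Φ₁ (⟨π, hπ⟩ : (⟨Over.mk str', F.obj.map g₂.op ξ'⟩ : (AlgSt.ofSp F).obj) ⟶ o)).trans
      (AlgSt.secHom_comp Φ₁ (⟨g₂, rfl⟩ : (⟨Over.mk str', F.obj.map g₂.op ξ'⟩ : (AlgSt.ofSp F).obj) ⟶ c)).symm
  · show π ≫ AlgSt.secHom Φ₂ o = g₂ ≫ a'
    rw [← hc₂]
    exact (AlgSt.secHom_comp Φ₂ (⟨π, hπ⟩ : (⟨Over.mk str', F.obj.map g₂.op ξ'⟩ : (AlgSt.ofSp F).obj) ⟶ o)).trans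
      (AlgSt.secHom_comp Φ₂ (⟨g₂, rfl⟩ : (⟨Over.mk str', F.obj.map g₂.op ξ'⟩ : (AlgSt.ofSp F).obj) ⟶ c)).symm

/-- An atlas of the fibre over an algebraically closed point has a rational point if the diagonal is surjective. -/
theorem exists_rational_of_atlas (h𝒳 : AlgSt.IsAlgStack Scheme.fppfPrecoverage 𝒳)
    (h𝒴 : AlgSt.IsAlgStack Scheme.fppfPrecoverage 𝒴) (hΔ : AlgSt.IsSurjective (FibCat.diag f))
    (k : Type u) [Field k] [IsAlgClosed k] (s : Spec (CommRingCat.of k) ⟶ S) (u : overCat (Over.mk s) ⥤ᵇ 𝒴)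
    (x : overCat V ⥤ᵇ fp u f) (hx : AlgSt.RepByAlgSpWith (AlgSp.LocP @Smooth) x) [Nonempty V.left] :
    ∃ σ : Over.mk s ⟶ V, σ ≫ atlasHom f u x = 𝟙 _ := by
  haveI := h𝒳.isStack.1
  haveI := h𝒴.isStack.1
  haveI : IsFibGrpd (fp u f).p := isFibGrpd_fp
  let q := atlasHom f u x
  -- a closed point of an affine open
  obtain ⟨_, ⟨W, hW, rfl⟩, hvW, -⟩ :=
    V.left.isBasis_affineOpens.exists_subset_of_mem_open (Set.mem_univ (Classical.arbitrary V.left)) isOpen_univ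
  haveI : IsAffine (W : Scheme.{u}) := hW
  haveI : CompactSpace W := isCompact_iff_compactSpace.mp hW.isCompact
  haveI : Nonempty (W : Scheme.{u}) := ⟨⟨_, hvW⟩⟩
  obtain ⟨v₀, -, hv₀⟩ := (isClosed_univ (X := (W : Scheme.{u}))).exists_closed_singleton Set.univ_nonempty
  let κ := (W : Scheme.{u}).residueField v₀
  let ι₀ : Spec κ ⟶ V.left := (W : Scheme.{u}).fromSpecResidueField v₀ ≫ Scheme.Opens.ι W
  haveI : IsClosedImmersion ((W : Scheme.{u}).fromSpecResidueField v₀) :=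
    isClosed_singleton_iff_isClosedImmersion.1 hv₀
  let TK : Over S := Over.mk (ι₀ ≫ V.hom)
  let vK : TK ⟶ V := Over.homMk ι₀ rfl
  -- the base change of the atlas
  obtain ⟨F, e, he, hsm⟩ := hx TK (BasedFunctor.comp (mapCat vK) x)
  let Φ₁ := BasedFunctor.comp e (fpFst (BasedFunctor.comp (mapCat vK) x) x)
  let Φ₂ := BasedFunctor.comp e (fpSnd (BasedFunctor.comp (mapCat vK) x) x)
  obtain ⟨P, p, hp, hps⟩ := F.property.atlas
  let ξ : F.obj.obj.obj (op P) := p.hom.app (op P) ⟨𝟙 P⟩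
  let o : (AlgSt.ofSp F.obj).obj := ⟨P, ξ⟩
  let t : P ⟶ TK := AlgSt.secHom Φ₁ o
  let w : P ⟶ V := AlgSt.secHom Φ₂ o
  have hwq : t ≫ vK ≫ q = w ≫ q := by
    have hs : (e.obj o).obj.snd.left = (e.obj o).obj.fst.left :=
      (Φ₂.w_obj o).trans (Φ₁.w_obj o).symm
    have h := snd_hom_comp_atlasHom f u x vK (e.obj o) hs
    show (eqToHom (Φ₁.w_obj o).symm ≫ (e.obj o).obj.fst.hom) ≫ vK ≫ q =
      (eqToHom (Φ₂.w_obj o).symm ≫ (e.obj o).obj.snd.hom) ≫ q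
    simp only [Category.assoc]
    have h' : eqToHom hs.symm ≫ (e.obj o).obj.snd.hom ≫ q = (e.obj o).obj.fst.hom ≫ vK ≫ q := h
    rw [← h', eqToHom_trans_assoc]
  have ht : (yon S).map t = p ≫ AlgSt.spMapOfOver Φ₁ := by
    refine CategoryTheory.ObjectProperty.hom_ext _ (NatTrans.ext (funext fun R => ?_))
    ext ⟨π⟩
    induction R using Opposite.rec with
    | op R =>
      show (⟨π ≫ t⟩ : ULift (R ⟶ TK)) = ⟨AlgSt.secHom Φ₁ ⟨R, p.hom.app (op R) ⟨π⟩⟩⟩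
      refine congrArg ULift.up (AlgSt.secHom_comp Φ₁ (⟨π, ?_⟩ : (⟨R, p.hom.app (op R) ⟨π⟩⟩ : (AlgSt.ofSp F.obj).obj) ⟶ o))
      show F.obj.obj.map π.op (p.hom.app (op P) ⟨𝟙 P⟩) = p.hom.app (op R) ⟨π⟩
      exact ((ConcreteCategory.congr_hom (p.hom.naturality π.op) ⟨𝟙 P⟩).symm).trans
        (congrArg (fun z => p.hom.app (op R) z) (by show (⟨π ≫ 𝟙 P⟩ : ULift (R ⟶ P)) = ⟨π⟩; rw [Category.comp_id]))
  have hp' : LocP @LocallyOfFiniteType p :=
    locP_mono (fun _ _ g (hg : Etale g) => inferInstanceAs (LocallyOfFiniteType g))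
      (locP_etale_of_isEtaleMor (isEtaleMor_of_repWith hp))
  haveI : LocallyOfFiniteType t.left :=
    (locP_yon_map_iff (P := @LocallyOfFiniteType) t).mp
      (ht ▸ good_lft.comp (IsAlgSpace.yon_obj P) F.property (IsAlgSpace.yon_obj TK) p _ hp'
        (locP_mono (fun _ _ g (hg : Smooth g) => inferInstanceAs (LocallyOfFiniteType g)) hsm))
  haveI : LocallyOfFiniteType vK.left := inferInstanceAs (LocallyOfFiniteType ι₀)
  have hpairs : ∀ (Ω : Type u) [Field Ω] [IsAlgClosed Ω] (a : Spec (CommRingCat.of Ω) ⟶ V.left)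
      (b : Spec (CommRingCat.of Ω) ⟶ TK.left), a ≫ q.left = b ≫ vK.left ≫ q.left →
      ∃ (Ω' : Type u) (_ : Field Ω') (π : Spec (CommRingCat.of Ω') ⟶ P.left)
        (g : Spec (CommRingCat.of Ω') ⟶ Spec (CommRingCat.of Ω)), π ≫ t.left = g ≫ b ∧ π ≫ w.left = g ≫ a := by
    intro Ω _ _ a b hab
    have hb : b ≫ TK.hom = a ≫ V.hom := by
      rw [← Over.w q, ← Over.w vK, ← Over.w q, reassoc_of% hab]
    obtain ⟨Ω', _, str', π, g, h₁, h₂⟩ := exists_lift_pair f u x h𝒳 h𝒴 hΔ vK e he p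
      (map_surjective_of_repWith hps) Ω (a ≫ V.hom) (Over.homMk a rfl) (Over.homMk b hb)
      (Over.OverMorphism.ext hab)
    exact ⟨Ω', inferInstance, π.left, g.left, congrArg CommaMorphism.left h₁, congrArg CommaMorphism.left h₂⟩
  haveI : IsIso (vK ≫ q).left := by
    haveI : LocallyOfFiniteType (show Spec (CommRingCat.of κ) ⟶ V.left from vK.left) := ‹LocallyOfFiniteType vK.left›
    exact isIso_of_pairs (k := k) (K := κ) q.left vK.left t.left w.left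
      (congrArg CommaMorphism.left hwq.symm) hpairs
  haveI : IsIso (vK ≫ q) := by
    haveI : IsIso ((Over.forget S).map (vK ≫ q)) := ‹IsIso (vK ≫ q).left›
    exact isIso_of_reflects_iso _ (Over.forget S)
  exact ⟨inv (vK ≫ q) ≫ vK, by rw [Category.assoc, IsIso.inv_hom_id]⟩

end AlgPtLiftLib
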